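import Cfsg.Agent.Lib.Classical.QuadOmega.Diag

/-!
Minus the identity: discriminant criterion.
-/

set_option autoImplicit false

namespace Cfsg.Agent.Lib.Classical.QuadOmega

open QuadraticMap Cfsg.Agent.Lib.Classical.Quad
open scoped Matrix

attribute [local instance] _root_.Classical.propDecidable

variable {F : Type*} [Field F] [Fintype F] {V : Type*} [AddCommGroup V] [Module F V] [Finite V]
  {Q : QuadraticForm F V}

lemma ndBin {a b : F} (hab : Aniso a b) : Nd (binQ a b) := nd_binQ hab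

lemma not_isSquare_disc {a b : F} (h2 : (2 : F) ≠ 0) (hab : Aniso a b) :
    ¬ IsSquare (a ^ 2 - 4 * b) := by
  rintro ⟨d, hd⟩
  exact h2 (hab (d - a) 2 (by linear_combination -hd)).2

omit [Fintype F] [Finite V] in
lemma negOne_binQ {a b : F} (h2 : (2 : F) ≠ 0) (hd : 4 * b - a ^ 2 ≠ 0) :
    negOne (binQ a b) = refl (binQ a b) ![1, 0] * refl (binQ a b) ![-a, 2] := by
  have e1 : binQ a b ![1, 0] = 1 := by simp [binQ_apply]
  have e2 : binQ a b ![-a, 2] = 4 * b - a ^ 2 := by simp [binQ_apply]; ring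
  have hp : ∀ v : Fin 2 → F, polar (binQ a b) v ![1, 0] = 2 * v 0 + a * v 1 ∧
      polar (binQ a b) v ![-a, 2] = (4 * b - a ^ 2) * v 1 := fun v => by
    constructor <;> simp only [polar, binQ_apply, Pi.add_apply] <;> simp <;> ring
  refine iso_ext fun v => ?_
  rw [negOne_apply, Subgroup.coe_mul, LinearEquiv.mul_apply, refl_apply (by rw [e1]; exact one_ne_zero),
    refl_apply (by rw [e2]; exact hd), e1, e2, (hp v).2, (hp _).1,
    mul_div_cancel_left₀ _ hd]
  ext i
  fin_cases i
  · simp [Matrix.vecHead, Matrix.vecTail]; ring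
  · simp [Matrix.vecHead, Matrix.vecTail]; ring

lemma invs_negOne_binQ {a b : F} (h2 : (2 : F) ≠ 0) (hab : Aniso a b) :
    dick (ndBin hab) (negOne (binQ a b)) = 1 ∧
      spn (ndBin hab) (negOne (binQ a b)) = sqSign (4 * b - a ^ 2) := by
  have hd : 4 * b - a ^ 2 ≠ 0 := fun h => not_isSquare_disc h2 hab ⟨0, by linear_combination -h⟩
  have e1 : binQ a b ![1, 0] = 1 := by simp [binQ_apply]
  have e2 : binQ a b ![-a, 2] = 4 * b - a ^ 2 := by simp [binQ_apply]; ring
  have n1 : binQ a b ![1, 0] ≠ 0 := by rw [e1]; exact one_ne_zero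
  have n2 : binQ a b ![-a, 2] ≠ 0 := by rw [e2]; exact hd
  rw [negOne_binQ h2 hd, map_mul, map_mul, dick_refl _ n1, dick_refl _ n2, spn_refl _ h2 n1,
    spn_refl _ h2 n2, e1, e2, sqSign_one, one_mul]
  exact ⟨by simp, rfl⟩

omit [Fintype F] [Finite V] in
/-- Acting on the anisotropic part of a split form. -/
noncomputable def liftHom (k : ℕ) (Q : QuadraticForm F V) : isoG Q →* isoG (splitQ k Q) where
  toFun g := ⟨(LinearEquiv.refl F _).prodCongr g.1, fun p => by simp [splitQ_apply, iso_Q]⟩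
  map_one' := iso_ext fun p => rfl
  map_mul' g h := iso_ext fun p => rfl

lemma invs_liftHom (hQ : Nd Q) (h2 : (2 : F) ≠ 0) (k : ℕ) (g : isoG Q) :
    dick (nd_splitQ hQ k) (liftHom k Q g) = dick hQ g ∧
      spn (nd_splitQ hQ k) (liftHom k Q g) = spn hQ g := by
  have hh : g ∈ Subgroup.closure {r | ∃ w, Q w ≠ 0 ∧ r = refl Q w} :=
    closure_refl_eq_top' hQ (reg_of_two_ne_zero h2) ▸ Subgroup.mem_top g
  have hr : ∀ w, Q w ≠ 0 → liftHom k Q (refl Q w) = refl (splitQ k Q) (0, w) ∧
      splitQ k Q (0, w) = Q w := fun w hw => by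
    have h : splitQ k Q (0, w) = Q w := by simp [splitQ_apply]
    refine ⟨iso_ext fun p => ?_, h⟩
    change (p.1, (refl Q w).1 p.2) = _
    rw [refl_apply hw, refl_apply (by rwa [h]), h, polar_splitQ]
    ext <;> simp
  constructor
  · refine MonoidHom.eqOn_closure (f := (dick (nd_splitQ hQ k)).comp (liftHom k Q))
      (g := dick hQ) ?_ hh
    rintro _ ⟨w, hw, rfl⟩
    obtain ⟨e, he⟩ := hr w hw
    rw [MonoidHom.comp_apply, e, dick_refl _ (by rwa [he]), dick_refl _ hw]
  · refine MonoidHom.eqOn_closure (f := (spn (nd_splitQ hQ k)).comp (liftHom k Q))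
      (g := spn hQ) ?_ hh
    rintro _ ⟨w, hw, rfl⟩
    obtain ⟨e, he⟩ := hr w hw
    rw [MonoidHom.comp_apply, e, spn_refl _ h2 (by rwa [he]), he, spn_refl _ h2 hw]

theorem negOne_mem_minus {a b : F} {q : ℕ} (hF : Fintype.card F = q) (hodd : Odd q)
    (hab : Aniso a b) (k : ℕ) :
    negOne (splitQ k (binQ a b)) ∈ commutator (isoG (splitQ k (binQ a b))) ↔
      q ^ (k + 1) % 4 = 3 := by
  have h2 : (2 : F) ≠ 0 := two_ne_zero_of_odd (hF ▸ hodd)
  have hd : 4 * b - a ^ 2 ≠ 0 := fun h => not_isSquare_disc h2 hab ⟨0, by linear_combination -h⟩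
  have e : negOne (splitQ k (binQ a b)) =
      scaleHom k (binQ a b) (fun _ => -1) * liftHom k (binQ a b) (negOne (binQ a b)) := by
    refine iso_ext fun p => ?_
    rw [negOne_apply, Subgroup.coe_mul, LinearEquiv.mul_apply]
    refine Prod.ext (Prod.ext (funext fun i => ?_) (funext fun i => ?_)) rfl <;>
      simp [scaleHom_apply, liftHom]
  obtain ⟨s1, s2⟩ := invs_scaleHom (ndBin hab) h2 k (fun _ => -1)
  obtain ⟨t1, t2⟩ := invs_negOne_binQ h2 hab
  obtain ⟨u1, u2⟩ := invs_liftHom (ndBin hab) h2 k (negOne (binQ a b))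
  rw [mem_commutator_iff (nd_splitQ (ndBin hab) k) h2, e, map_mul, map_mul, s1, s2, u1, u2, t1, t2]
  simp only [one_mul, true_and, Units.val_neg, Units.val_one, Finset.prod_const, Finset.card_univ,
    Fintype.card_fin]
  have hne : ((-1 : F) ^ k) ≠ 0 := pow_ne_zero _ (neg_ne_zero.2 one_ne_zero)
  have hns := not_isSquare_disc h2 hab
  rw [← sqSign_mul hne hd, show (-1 : F) ^ k * (4 * b - a ^ 2) = (-1 : F) ^ (k + 1) * (a ^ 2 - 4 * b)
    by rw [pow_succ]; ring, sqSign_mul (pow_ne_zero _ (neg_ne_zero.2 one_ne_zero))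
      (aniso_disc hab), show sqSign (a ^ 2 - 4 * b) = -1 by rw [sqSign, if_neg hns]]
  have key := isSquare_neg_one_pow (F := F) hF hodd (k + 1)
  have hq : q ^ (k + 1) % 4 = 1 ∨ q ^ (k + 1) % 4 = 3 := by
    have := Nat.odd_iff.1 (hodd.pow (n := k + 1)); omega
  by_cases hs : IsSquare ((-1 : F) ^ (k + 1))
  · have := key.1 hs
    simp [sqSign, hs]; omega
  · have : q ^ (k + 1) % 4 ≠ 1 := fun h => hs (key.2 h)
    simp [sqSign, hs]; omega

omit [Fintype F] in
lemma negOne_eq_prod_refl {ι : Type*} [Fintype ι] (b : Module.Basis ι F V)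
    (ho : ∀ i j, i ≠ j → polar Q (b i) (b j) = 0) (hn : ∀ i, Q (b i) ≠ 0) :
    negOne Q = (((Finset.univ : Finset ι).toList.map b).map (refl Q)).prod := by
  classical
  have key : ∀ l : List ι, l.Nodup → ∀ j, ((l.map b).map (refl Q)).prod.1 (b j) =
      if j ∈ l then -b j else b j := by
    intro l
    induction l with
    | nil => intro _ j; simp
    | cons i l ih =>
      intro hl j
      obtain ⟨hi, hl'⟩ := List.nodup_cons.1 hl
      rw [List.map_cons, List.map_cons, List.prod_cons, Subgroup.coe_mul, LinearEquiv.mul_apply,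
        ih hl' j]
      rcases eq_or_ne j i with rfl | hji
      · rw [if_neg hi, if_pos List.mem_cons_self, refl_apply (hn j), polar_self, nsmul_eq_mul,
          Nat.cast_ofNat, mul_div_cancel_right₀ _ (hn j), two_smul, sub_add_cancel_left]
      · have hfix : (refl Q (b i)).1 (b j) = b j := by
          rw [refl_apply (hn i), ho j i hji, zero_div, zero_smul, sub_zero]
        by_cases hjl : j ∈ l
        · rw [if_pos hjl, if_pos (List.mem_cons_of_mem _ hjl), map_neg, hfix]
        · rw [if_neg hjl, if_neg (by simp [hji, hjl]), hfix]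
  refine Subtype.ext (LinearEquiv.toLinearMap_injective (b.ext fun j => ?_))
  change (negOne Q).1 (b j) = _
  rw [negOne_apply]
  exact ((key _ (Finset.nodup_toList _) j).trans (if_pos (Finset.mem_toList.2 (Finset.mem_univ j)))).symm

theorem negOne_mem_iff_disc {n : ℕ} (hQ : Nd Q) (h2 : (2 : F) ≠ 0) (hn : Even n)
    (c : Module.Basis (Fin n) F V) :
    negOne Q ∈ commutator (isoG Q) ↔
      IsSquare (Matrix.of fun i j : Fin n => polar Q (c i) (c j)).det := by
  have := Module.Finite.of_finite (R := F) (M := V)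
  have : Invertible (2 : F) := invertibleOfNonzero h2
  have hsym : (polarBilin Q).IsSymm := ⟨fun x y => polar_comm Q x y⟩
  obtain ⟨b', hb⟩ := LinearMap.BilinForm.exists_orthogonal_basis hsym
  let b := b'.reindex (finCongr (Module.finrank_eq_card_basis c |>.trans (Fintype.card_fin n)))
  have ho : ∀ i j, i ≠ j → polar Q (b i) (b j) = 0 := fun i j hij => by
    simp only [b, Module.Basis.reindex_apply]
    exact hb fun h => hij ((finCongr _).symm.injective h)
  have hne : ∀ i, Q (b i) ≠ 0 := fun i h0 => b.ne_zero i (hQ _ fun y => by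
    rw [← b.sum_repr y, ← polarBilin_apply_apply, map_sum]
    refine Finset.sum_eq_zero fun j _ => ?_
    rw [map_smul, polarBilin_apply_apply]
    rcases eq_or_ne i j with rfl | hij
    · rw [polar_self_sing h0, smul_zero]
    · rw [ho i j hij, smul_zero])
  set vs := (Finset.univ : Finset (Fin n)).toList.map b
  have hvs : ∀ v ∈ vs, Q v ≠ 0 := fun v hv => by
    obtain ⟨i, -, rfl⟩ := List.mem_map.1 hv
    exact hne i
  obtain ⟨h1, h3, -⟩ := invs_prod_refl hQ h2 vs hvs
  rw [mem_commutator_iff hQ h2, negOne_eq_prod_refl b ho hne, h1, h3, sqSign_eq_one_iff]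
  have hlen : vs.length = n := by simp [vs]
  rw [hlen, hn.neg_one_pow, List.map_map, Finset.prod_map_toList]
  simp only [true_and, Function.comp]
  have hdet : (Matrix.of fun i j : Fin n => polar Q (c i) (c j)).det =
      (b.toMatrix c).det ^ 2 * (2 ^ n * ∏ i, Q (b i)) := by
    have hc : (Matrix.of fun i j : Fin n => polar Q (c i) (c j)) =
        LinearMap.BilinForm.toMatrix c (polarBilin Q) := by
      ext i j; simp [LinearMap.BilinForm.toMatrix_apply]
    have hb2 : LinearMap.BilinForm.toMatrix b (polarBilin Q) = Matrix.diagonal fun i => 2 * Q (b i) := by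
      ext i j
      rw [LinearMap.BilinForm.toMatrix_apply, polarBilin_apply_apply]
      rcases eq_or_ne i j with rfl | hij
      · rw [Matrix.diagonal_apply_eq, polar_self, nsmul_eq_mul, Nat.cast_ofNat]
      · rw [Matrix.diagonal_apply_ne _ hij, ho i j hij]
    rw [hc, ← LinearMap.BilinForm.toMatrix_mul_basis_toMatrix b c, Matrix.det_mul, Matrix.det_mul,
      Matrix.det_transpose, hb2, Matrix.det_diagonal, Finset.prod_mul_distrib, Finset.prod_const,
      Finset.card_univ, Fintype.card_fin]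
    ring
  have hP : (b.toMatrix c).det ≠ 0 := by
    intro h0
    have := congrArg Matrix.det (b.toMatrix_mul_toMatrix_flip c)
    rw [Matrix.det_mul, h0, zero_mul, Matrix.det_one] at this
    exact zero_ne_one this
  obtain ⟨k, rfl⟩ := hn
  rw [hdet, show (b.toMatrix c).det ^ 2 * (2 ^ (k + k) * ∏ i, Q (b i)) =
    ((b.toMatrix c).det * 2 ^ k) ^ 2 * ∏ i, Q (b i) by ring]
  constructor
  · exact fun h => (IsSquare.sq _).mul h
  · rintro ⟨r, hr⟩
    refine ⟨r / ((b.toMatrix c).det * 2 ^ k), ?_⟩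
    have h2k : (2 : F) ^ k ≠ 0 := pow_ne_zero _ h2
    field_simp
    linear_combination hr

end Cfsg.Agent.Lib.Classical.QuadOmega
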