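import Cfsg.Agent.Lib.Classical.QuadOmega.Basic
import Cfsg.Prelude.Def_Classical

/-!
Change of the ground field for isometry groups.
-/

set_option autoImplicit false

namespace Cfsg.Agent.Lib.Classical.QuadOmega

open QuadraticMap
open scoped Matrix

variable {K : Type*} [Field K] {ι : Type} [Fintype ι] [DecidableEq ι]

/-- A quadratic form is determined by its values on unit vectors and their pairwise sums. -/
lemma quad_ext {R S : QuadraticForm K (ι → K)} (h₁ : ∀ i, R (Pi.single i 1) = S (Pi.single i 1))
    (h₂ : ∀ i j, i ≠ j → R (Pi.single i 1 + Pi.single j 1) = S (Pi.single i 1 + Pi.single j 1)) :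
    R = S := by
  have hp : ∀ i j, polar R (Pi.single i (1 : K)) (Pi.single j 1) =
      polar S (Pi.single i (1 : K)) (Pi.single j 1) := by
    intro i j
    rcases eq_or_ne i j with rfl | hij
    · rw [polar_self, polar_self, h₁]
    · rw [polar, polar, h₁, h₁, h₂ i j hij]
  have hb : polarBilin R = polarBilin S :=
    LinearMap.BilinForm.ext_basis (Pi.basisFun K ι) fun i j => by simpa using hp i j
  refine QuadraticMap.ext fun x => ?_
  rw [pi_eq_sum_univ' x]
  induction (Finset.univ : Finset ι) using Finset.induction_on with
  | empty => simp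
  | @insert a s ha ih =>
    rw [Finset.sum_insert ha, QuadraticMap.map_add ⇑R, QuadraticMap.map_add ⇑S, ih,
      QuadraticMap.map_smul, QuadraticMap.map_smul, h₁]
    congr 1
    exact LinearMap.congr_fun (LinearMap.congr_fun hb _) _

variable {F : Type*} [Field F]

/-- An isometry group maps into that of the extended form. -/
noncomputable def extendHom (f : F →+* K) (RF : (ι → F) → F) (RK : QuadraticForm K (ι → K))
    (h : ∀ v, RK (fun i => f (v i)) = f (RF v)) :
    Cfsg.isometryGroup F RF →* Cfsg.isometryGroup K ⇑RK :=
  ((Matrix.GeneralLinearGroup.map f).comp (Cfsg.isometryGroup F RF).subtype).codRestrict _ fun g =>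
    show ∀ u v : ι → K, RK (((g.1 : Matrix ι ι F).map f) *ᵥ u) = RK u by
    intro u _
    set M := (g.1 : Matrix ι ι F).map f
    have hF : ∀ v : ι → F, RK (M *ᵥ fun i => f (v i)) = RK (fun i => f (v i)) := fun v => by
      rw [show (M *ᵥ fun i => f (v i)) = fun i => f (((g.1 : Matrix ι ι F) *ᵥ v) i) from
        funext fun i => (RingHom.map_mulVec f (g.1 : Matrix ι ι F) v i).symm, h, h]
      exact congrArg f (g.2 v v)
    have hs : ∀ i, (Pi.single i (1 : K) : ι → K) = fun j => f ((Pi.single i (1 : F) : ι → F) j) :=
      fun i => funext fun j => by simp [Pi.single_apply, apply_ite f]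
    have e : RK.comp (Matrix.mulVecLin M) = RK := quad_ext
      (fun i => by rw [QuadraticMap.comp_apply, Matrix.mulVecLin_apply, hs, hF])
      (fun i j _ => by
        have h' : (Pi.single i (1 : K) + Pi.single j 1 : ι → K) =
            fun k => f ((Pi.single i (1 : F) + Pi.single j 1 : ι → F) k) := by
          ext k; simp [Pi.single_apply, apply_ite f]
        rw [QuadraticMap.comp_apply, Matrix.mulVecLin_apply, h', hF])
    exact congrArg (fun S : QuadraticForm K (ι → K) => S u) e

lemma extendHom_injective (f : F →+* K) (RF : (ι → F) → F) (RK : QuadraticForm K (ι → K))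
    (h : ∀ v, RK (fun i => f (v i)) = f (RF v)) : Function.Injective (extendHom f RF RK h) := by
  intro g g' e
  refine Subtype.ext (Matrix.GeneralLinearGroup.ext fun i j => ?_)
  refine f.injective ?_
  exact congrArg (fun G : Cfsg.isometryGroup K ⇑RK => (G.1 : Matrix ι ι K) i j) e

end Cfsg.Agent.Lib.Classical.QuadOmega
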